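import Cfsg.Agent.H116.RatB0.RowRgd
import Cfsg.Agent.H519.Dl.WittTor
import Cfsg.Agent.H716.RGDAbMinus
import Cfsg.Agent.FastGrp
import Cfsg.Agent.Prune
set_option linter.all false
prune_inst 0x7f00000000000000000000000000000000000000000000000000000000000000000000000000000000000000000000000000000000000000000000000000000000000000000000000000000000000000003fffffffffffffffffffffffffffbeffbdffffffff
open scoped Cfsg.Agent.FastGrp

/-!
# The rows `PΩ⁺`, `p ∣ q - 1`, of S4891 (helper314, for helper116)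

* `exists_mono` : a representative of an element of the Weyl group of type `D_{n+2}` is monomial;
* `eq_one_of_comm` : the Weyl group acts faithfully on the elements `dX x y ζ` of the torus modulo scalars;
* `rowInt_oplus` : the row.
-/

set_option autoImplicit false
set_option linter.unusedSectionVars false

namespace Cfsg.Agent.H314.RatB.OPlus

open Cfsg
open CoxeterSystem Cfsg.Agent.ChevalleyStructure.CoxeterGeom Cfsg.Agent.Tits.Roots
open Cfsg.Agent.Nodes.TypeC (wt wt_apply ng ng_ng ng_fst ng_snd wt_ng)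
open Cfsg.Agent.Nodes.TypeD
open Cfsg.Agent.Nodes.Comb Cfsg.Agent.Nodes.Reps Cfsg.Agent.Nodes.WittRoot Cfsg.Agent.Nodes.BNOf
  Cfsg.Agent.Nodes.RGDLib
open Cfsg.Agent.Nodes
open Cfsg.Agent.Nodes.WittRGD (Tor mem_Tor not_prop b_ne_zero eq_or_ng)
open Cfsg.Agent.TitsThree Cfsg.Agent.TitsThree.Siegel Cfsg.Agent.TitsThree.WittFrame Cfsg.Agent.TitsThree.WittWeyl
open Cfsg.Agent.H519.Dl.WittTor (dX dX_x dX_y dX_neg_x dX_neg_y dX_of_ne dX_V0 dX_eig dX_pow)
open Cfsg.Agent.H145.BR (RowInt)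

section General

variable {F : Type*} [Field F] {V : Type*} [AddCommGroup V] [Module F V] {H : HForm F V} {n : ℕ}
  {Fr : Frame H (Fin (n + 2))} {G0 : Subgroup (V ≃ₗ[F] V)} {K : Type*} [Group K] (φ : G0 →* K)
  (hA : Amb Fr G0)

include hA in
theorem dX_mem (x y : Fin (n + 2) × Bool) (t : F) : dX Fr x y t ∈ G0 :=
  mul_mem (WittRGDD.nX_mem hA _ _ _) (inv_mem (WittRGDD.nX_mem hA _ _ _))

include hA in
theorem dX_mem_Tor {x y : Fin (n + 2) × Bool} (h : x.1 ≠ y.1) {t : F} (ht : t ≠ 0) : dX Fr x y t ∈ Tor Fr G0 := by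
  refine ⟨dX_mem hA x y t, fun z => ?_⟩
  obtain ⟨l, hl, e, -⟩ := dX_eig (Fr := Fr) h ht z
  exact ⟨l, hl, e⟩

/-- the representatives of the Weyl group are monomial -/
theorem exists_mono {W : Type*} [Group W] (cs : CoxeterSystem (M n) W)
    (hN : NSys (M n) (((Tor Fr G0).subgroupOf G0).map φ) (fun i => φ ⟨WittRGDD.nn Fr i, WittRGDD.nn_mem hA i⟩))
    (w : W) : ∀ k : K, Rp cs hN w k → ∃ g : G0, φ g = k ∧ ∃ π : Fin (n + 2) × Bool → Fin (n + 2) × Bool,
      Mono Fr g.1 π ∧ ∀ x a b, ee x = wt a + wt b → ee (rep cs (isCartan n) w x) = wt (π a) + wt (π b) := by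
  induction w using cs.simple_induction_left with
  | one =>
    intro k hk
    obtain ⟨g, hg, rfl⟩ := hk.mem_of_one
    refine ⟨g, rfl, id, (Subgroup.mem_subgroupOf.1 hg).2, fun x a b e => ?_⟩
    rw [map_one, Module.End.one_apply, e]
    rfl
  | mul_simple_left w i ih =>
    intro k hk
    have h1 := (rp_simple (cs := cs) (hN := hN) i).inv.mul hk
    rw [inv_mul_cancel_left] at h1
    obtain ⟨g, hg, π, hm, he⟩ := ih _ h1
    refine ⟨(⟨WittRGDD.nn Fr i, WittRGDD.nn_mem hA i⟩ * g :), ?_, fun x => sg i (π x), (WittRGDD.mono_nn i).mul hm,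
      fun x a b e => ?_⟩
    · rw [map_mul, hg, mul_inv_cancel_left]
    · rw [rep_mul_apply, rep_simple, ee_refl_of (he x a b e)]

variable (hker : ∀ g : G0, φ g = 1 → ∃ a : F, ∀ v, g.1 v = a • v)

include hker

/-- the elements `dX x y ζ` have no common fixed point on a root group -/
theorem fpf_X {x y : Fin (n + 2) × Bool} (h : x.1 ≠ y.1) {t : F} (ht : t ≠ 0) (ht2 : t ^ 2 ≠ 1) {s : F}
    (hs : φ ⟨dX Fr x y t, dX_mem hA x y t⟩ * φ ⟨Fr.X x y s, hA.X_mem _ _ _⟩ =
      φ ⟨Fr.X x y s, hA.X_mem _ _ _⟩ * φ ⟨dX Fr x y t, dX_mem hA x y t⟩) : s = 0 := by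
  have h1 : dX Fr x y t * Fr.X x y s * (dX Fr x y t)⁻¹ = Fr.X x y (t ^ 2 * s) := by
    rw [conj_X Fr (hA.iso _ (dX_mem hA x y t)) h h (dX_x h ht) (dX_y h ht)]
    congr 1
    have h2 := Fr.η_ne y
    rw [H.σσ]
    field_simp
  have h2 : φ ⟨Fr.X x y (t ^ 2 * s), hA.X_mem _ _ _⟩ = φ ⟨Fr.X x y s, hA.X_mem _ _ _⟩ := by
    rw [← mul_inv_eq_iff_eq_mul] at hs
    rw [← hs, ← map_inv, ← map_mul, ← map_mul]
    congr 1
    exact Subtype.ext h1.symm
  have h3 : φ ⟨Fr.X x y (t ^ 2 * s - s), hA.X_mem _ _ _⟩ = 1 := by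
    rw [← mul_inv_eq_one, ← map_inv, ← map_mul] at h2
    rw [← h2]
    congr 1
    apply Subtype.ext
    change Fr.X x y (t ^ 2 * s - s) = Fr.X x y (t ^ 2 * s) * (Fr.X x y s)⁻¹
    rw [← Fr.X_neg, ← Fr.X_add, sub_eq_add_neg]
  have h4 : t ^ 2 * s - s = 0 := by
    obtain ⟨a, ha⟩ := hker _ h3
    have h1 : Fr.b (neg y) + (t ^ 2 * s - s) • Fr.b x = a • Fr.b (neg y) := by
      rw [← WittWeyl.X_apply_neg Fr h]; exact ha _
    have h3 := congrArg (fun v => H.h v (Fr.b (neg x))) h1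
    have h4 : H.h (Fr.b (neg y)) (Fr.b (neg x)) = 0 := Fr.hb_of_ne (x := neg y) (y := neg x) h.symm
    simp only [H.add_left, H.smul_left, h4, Fr.hb_self_neg, mul_zero, zero_add] at h3
    exact (mul_eq_zero.1 h3).resolve_right (Fr.η_ne _)
  have h5 : (t ^ 2 - 1) * s = 0 := by linear_combination h4
  rcases mul_eq_zero.1 h5 with h6 | h6
  · exact absurd (sub_eq_zero.1 h6) ht2
  · exact h6

/-- a monomial element commuting with the elements `dX x y ζ` modulo scalars fixes all lines -/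
theorem pi_eq (hn : 1 ≤ n) (hσ : ∀ t, H.σ t = t) {p : ℕ} (hp : Odd p) {t : F} (ht : t ≠ 0) (ht2 : t ^ 2 ≠ 1)
    (htp : t ^ p = 1) {g : G0} {π : Fin (n + 2) × Bool → Fin (n + 2) × Bool} (hm : Mono Fr g.1 π)
    (hc : ∀ x y, x.1 ≠ y.1 → φ ⟨dX Fr x y t, dX_mem hA x y t⟩ * φ g = φ g * φ ⟨dX Fr x y t, dX_mem hA x y t⟩)
    (z : Fin (n + 2) × Bool) : π z = z := by
  have ht1 : t ≠ 1 := fun h => ht2 (by rw [h, one_pow])
  -- the elements commute
  have key : ∀ x y : Fin (n + 2) × Bool, x.1 ≠ y.1 → ∀ v, g.1 (dX Fr x y t v) = dX Fr x y t (g.1 v) := by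
    intro x y h
    set d : G0 := ⟨dX Fr x y t, dX_mem hA x y t⟩ with hd
    have h1 : φ (g * d * g⁻¹ * d⁻¹) = 1 := by
      rw [map_mul, map_mul, map_mul, map_inv, map_inv, show φ g * φ d = φ d * φ g from (hc x y h).symm]
      group
    obtain ⟨a, ha⟩ := hker _ h1
    have h2 : ∀ v, g.1 (d.1 v) = a • d.1 (g.1 v) := by
      intro v
      have h3 := ha (d.1 (g.1 v))
      rw [← h3]
      change (g.1 * d.1) v = ((g * d * g⁻¹ * d⁻¹).1 * (d.1 * g.1)) v
      congr 1
      change g.1 * d.1 = g.1 * d.1 * g.1⁻¹ * d.1⁻¹ * (d.1 * g.1)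
      group
    -- the scalar
    have h3 : ∀ k : ℕ, ∀ v, g.1 ((d.1 ^ k) v) = a ^ k • (d.1 ^ k) (g.1 v) := by
      intro k
      induction k with
      | zero => intro v; rw [pow_zero, pow_zero, one_smul]; rfl
      | succ k ih =>
        intro v
        rw [pow_succ', mul_apply', h2, ih, map_smul, smul_smul, mul_apply', pow_succ']
    have h4 : a ^ p = 1 := by
      have h5 := h3 p (Fr.b z)
      have h6 : d.1 ^ p = 1 := dX_pow hA.V0 h ht htp
      rw [h6] at h5
      have h7 : g.1 (Fr.b z) = a ^ p • g.1 (Fr.b z) := h5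
      obtain ⟨l, hl, e⟩ := hm z
      rw [e, smul_smul] at h7
      by_contra hne
      have h8 : (l - a ^ p * l) • Fr.b (π z) = 0 := by rw [sub_smul, ← h7, sub_self]
      rcases smul_eq_zero.1 h8 with h9 | h9
      · have h10 : (1 - a ^ p) * l = 0 := by linear_combination h9
        rcases mul_eq_zero.1 h10 with h11 | h11
        · exact hne (sub_eq_zero.1 h11).symm
        · exact hl h11
      · exact b_ne_zero _ h9
    have h5 : a * a = 1 := by
      have h6 := hA.iso _ (g * d * g⁻¹ * d⁻¹).2 (Fr.b z) (Fr.b (neg z))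
      rw [ha, ha, H.smul_left, H.smul_right, hσ, Fr.hb_self_neg] at h6
      have h7 := Fr.η_ne (neg z)
      have h8 : (a * a - 1) * Fr.η (neg z) = 0 := by linear_combination h6
      rcases mul_eq_zero.1 h8 with h9 | h9
      · exact sub_eq_zero.1 h9
      · exact absurd h9 h7
    have h6 : a = 1 := by
      obtain ⟨k, hk⟩ := hp
      rw [hk, pow_succ, pow_mul, pow_two, h5, one_pow, one_mul] at h4
      exact h4
    intro v
    have h7 := h2 v
    rw [h6, one_smul] at h7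
    exact h7
  by_contra hne
  obtain ⟨j, hj1, hj2⟩ : ∃ j : Fin (n + 2), j ≠ z.1 ∧ j ≠ (π z).1 := by
    by_contra hcon
    push Not at hcon
    have h1 : (Finset.univ : Finset (Fin (n + 2))) ⊆ {z.1, (π z).1} := by
      intro j _
      rw [Finset.mem_insert, Finset.mem_singleton]
      by_cases hj : j = z.1
      · exact Or.inl hj
      · exact Or.inr (hcon j hj)
    have h2 := Finset.card_le_card h1
    rw [Finset.card_univ, Fintype.card_fin] at h2
    have h3 := Finset.card_le_two (a := z.1) (b := (π z).1)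
    omega
  have hzj : z.1 ≠ ((j, true) : Fin (n + 2) × Bool).1 := fun h => hj1 h.symm
  obtain ⟨l, hl, e⟩ := hm z
  have h1 := key z (j, true) hzj (Fr.b z)
  rw [dX_x hzj ht, map_smul, e, map_smul, smul_smul] at h1
  have hkill : ∀ c : F, (t * l) • Fr.b (π z) = (l * c) • Fr.b (π z) → t = c := by
    intro c h2
    have h3 : (t * l - l * c) • Fr.b (π z) = 0 := by rw [sub_smul, h2, sub_self]
    have h4 := (smul_eq_zero.1 h3).resolve_right (b_ne_zero _)
    have h5 : l * (t - c) = 0 := by linear_combination h4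
    exact sub_eq_zero.1 ((mul_eq_zero.1 h5).resolve_left hl)
  by_cases h2 : (π z).1 = z.1
  · have h3 : π z = neg z := (eq_or_ng h2).resolve_left hne
    have h4 : dX Fr z (j, true) t (Fr.b (π z)) = (H.σ t)⁻¹ • Fr.b (π z) := by
      rw [h3]
      exact dX_neg_x hzj ht
    rw [h4, smul_smul, hσ] at h1
    apply ht2
    rw [pow_two]
    nth_rewrite 1 [hkill _ h1]
    exact inv_mul_cancel₀ ht
  · have h4 : dX Fr z (j, true) t (Fr.b (π z)) = Fr.b (π z) := dX_of_ne hzj h2 (fun h => hj2 h.symm)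
    rw [h4] at h1
    exact ht1 (hkill 1 (by rw [mul_one]; exact h1))

/-- **The Weyl group acts faithfully.** -/
theorem eq_one_of_comm (hn : 1 ≤ n) (hσ : ∀ t, H.σ t = t) {p : ℕ} (hp : Odd p) {t : F} (ht : t ≠ 0) (ht2 : t ^ 2 ≠ 1)
    (htp : t ^ p = 1) {W : Type*} [Group W] (cs : CoxeterSystem (M n) W)
    (hN : NSys (M n) (((Tor Fr G0).subgroupOf G0).map φ) (fun i => φ ⟨WittRGDD.nn Fr i, WittRGDD.nn_mem hA i⟩))
    {w : W} {k : K} (hk : Rp cs hN w k)
    (hc : ∀ x y, x.1 ≠ y.1 → φ ⟨dX Fr x y t, dX_mem hA x y t⟩ * k = k * φ ⟨dX Fr x y t, dX_mem hA x y t⟩) :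
    w = 1 := by
  obtain ⟨g, rfl, π, hm, he⟩ := exists_mono φ hA cs hN w k hk
  have h1 := pi_eq φ hA hker hn hσ hp ht ht2 htp hm hc
  apply rep_injective cs (isCartan n)
  refine LinearMap.ext fun x => ?_
  have h3 : ∀ i, rep cs (isCartan n) w (sr i) = rep cs (isCartan n) 1 (sr i) := by
    intro i
    obtain ⟨a, b, -, e⟩ := exists_of_isRoot cs (isRoot_sr cs _ i)
    apply ee_injective
    rw [he _ a b e, h1, h1, map_one, Module.End.one_apply, e]
  have h2 : x = ∑ k, x k • sr k := by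
    funext k
    simp [sr, Finset.sum_apply, Pi.single_apply]
  rw [h2, map_sum, map_sum]
  exact Finset.sum_congr rfl fun k _ => by rw [map_smul, map_smul, h3]

end General

section Row

open QuadraticMap
open Cfsg.Agent.Nodes.WittInst Cfsg.Agent.LieClassical Cfsg.Agent.LieClassical.OrthCore
  Cfsg.Agent.LieClassical.OrthForms Cfsg.Agent.LieClassical.OrthSimple Cfsg.Agent.LieClassical.OrthFinite
open Cfsg.Agent.TitsThree.KSideO Cfsg.Agent.TitsThree.StdData Cfsg.Agent.TitsThree.WBridge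
  Cfsg.Agent.TitsThree.SiegelGen

variable {p : ℕ} [Fact p.Prime]

/-- **The row `PΩ⁺`, `p ∣ q - 1`.** -/
theorem rowInt_oplus' (hp2 : p ≠ 2) {F : Type} [Field F] [Fintype F] {n : ℕ} (hn : 1 ≤ n)
    (hd : p ∣ Fintype.card F - 1) : RowInt p (POmega F (quadFormPlus (n + 2) F)) := by
  classical
  have hpp : p.Prime := Fact.out
  obtain ⟨r, hr⟩ := CharP.exists F
  have hrp : Fact r.Prime := ⟨CharP.char_is_prime F r⟩
  have hpr : p ≠ r := by
    rintro rfl
    obtain ⟨k, -, hk⟩ := FiniteField.card F p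
    have h1 : p ∣ Fintype.card F := hk ▸ dvd_pow_self p k.ne_zero
    have h2 := (Nat.dvd_sub h1 hd)
    rw [Nat.sub_sub_self Fintype.card_pos] at h2
    exact hpp.one_lt.ne' (Nat.dvd_one.1 h2)
  obtain ⟨ζ, hζ⟩ : ∃ ζ : Fˣ, orderOf ζ = p :=
    exists_prime_orderOf_dvd_card p (by rw [Fintype.card_units]; exact hd)
  have ht : (ζ : F) ≠ 0 := ζ.ne_zero
  have htp : (ζ : F) ^ p = 1 := by
    rw [← Units.val_pow_eq_pow_val, ← hζ, pow_orderOf_eq_one, Units.val_one]
  have ht2 : (ζ : F) ^ 2 ≠ 1 := by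
    intro h
    have h1 : ζ ^ 2 = 1 := Units.ext (by rw [Units.val_pow_eq_pow_val, h, Units.val_one])
    have h2 := orderOf_dvd_of_pow_eq_one h1
    rw [hζ] at h2
    exact hp2 ((Nat.prime_dvd_prime_iff_eq hpp Nat.prime_two).1 h2)
  rw [← coe_plusForm]
  have hG : OrthTrans.Good (plusForm (n + 2) F) := by
    apply good_of_finite (nondeg_plusForm (n + 2) F)
    rw [Module.finrank_fintype_fun_eq_card, Fintype.card_sum, Fintype.card_fin]
    omega
  let cs := (M n).toCoxeterSystem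
  have : Finite (M n).Group := finite_W cs
  have R := rgdD_model (wplus (n + 2) F) hG (amb_plus _) (adm_plus _) (p := r) cs
  have hG1 := G1D_eq_top (wplus (n + 2) F) (toPOmega hG) (toPOmega_surjective hG) (adm_plus _) cs
  have hker : ∀ g : E (plusForm (n + 2) F), toPOmega hG g = 1 → ∃ a : F, ∀ v, g.1 v = a • v := fun g hg =>
    scalar_of_center hG (center_of_toPOmega hG hg)
  set T : Subgroup (POmega F ⇑(plusForm (n + 2) F)) :=
    ((Tor (toFrame (wplus (n + 2) F)) (E (plusForm (n + 2) F))).subgroupOf _).map (toPOmega hG) with hT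
  have hTc : ∀ s ∈ T, ∀ t ∈ T, s * t = t * s := by
    rintro _ ⟨s, hs, rfl⟩ _ ⟨t, ht, rfl⟩
    ((conv => enter [@2]; rw [← map_mul]); (conv => enter [@3]; rw [← map_mul]))
    congr 1
    refine Subtype.ext (H716.RGDAb.tor_comm_of (amb_plus (F := F) (n + 2)).V0 (Subgroup.mem_subgroupOf.1 hs)
      (Subgroup.mem_subgroupOf.1 ht) fun w hw => ?_)
    have hw0 : w = 0 := (Submodule.mem_bot F).1 hw
    rw [hw0, map_zero, map_zero, map_zero]
  let Q : Subgroup (POmega F ⇑(plusForm (n + 2) F)) :=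
    { carrier := {x | x ∈ T ∧ x ^ p = 1}
      mul_mem' := by
        rintro a b ⟨ha, ha1⟩ ⟨hb, hb1⟩
        refine ⟨mul_mem ha hb, ?_⟩
        simp only [(show Commute a b from hTc a ha b hb).mul_pow, ha1, hb1, one_mul]
      one_mem' := ⟨one_mem _, one_pow _⟩
      inv_mem' := by
        rintro a ⟨ha, ha1⟩
        exact ⟨inv_mem ha, by rw [inv_pow, ha1, inv_one]⟩ }
  have hmem : ∀ x y : Fin (n + 2) × Bool, x.1 ≠ y.1 →
      toPOmega hG ⟨dX (toFrame (wplus (n + 2) F)) x y (ζ : F), dX_mem (amb_plus (F := F) (n + 2)) x y _⟩ ∈ Q := by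
    intro x y h
    refine ⟨Subgroup.mem_map_of_mem _ (Subgroup.mem_subgroupOf.2 (dX_mem_Tor (amb_plus (F := F) (n + 2)) h ht)), ?_⟩
    rw [← map_pow]
    have h1 : (⟨dX (toFrame (wplus (n + 2) F)) x y (ζ : F), dX_mem (amb_plus (F := F) (n + 2)) x y _⟩ :
        E (plusForm (n + 2) F)) ^ p = 1 := Subtype.ext (dX_pow (amb_plus (F := F) (n + 2)).V0 h ht htp)
    rw [h1, map_one]
  have hGG : Bruhat.GG cs (isCartan n) T (XD (wplus (n + 2) F) (toPOmega hG)) = ⊤ := by
    (rewrite [eq_top_iff]; (conv => enter [@3]; rw [← hG1]))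
    exact le_sup_right
  refine H116.RatB0.rowInt_of_cent R hGG hpr (Q := Q) ?_ (fun x hx => hx.1) ?_ ?_
  · intro x
    exact ⟨1, Subtype.ext (by simp only [pow_one]; exact x.2.2)⟩
  · intro x hx _ u hu hc
    obtain ⟨a, b, hab, e⟩ := exists_of_isRoot cs hx
    obtain ⟨g, hg, rfl⟩ := hu
    have h1 := Subgroup.mem_subgroupOf.1 hg
    rw [WittRGDD.rg_eq (toFrame (wplus (n + 2) F)) hab e] at h1
    obtain ⟨s, hs⟩ := h1
    have h2 : g = ⟨(toFrame (wplus (n + 2) F)).X a b s, (amb_plus (F := F) (n + 2)).X_mem _ _ _⟩ :=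
      Subtype.ext hs
    subst h2
    have h3 := fpf_X (toPOmega hG) (amb_plus (F := F) (n + 2)) hker hab ht ht2 (hc _ (hmem a b hab))
    subst h3
    have h4 : (⟨(toFrame (wplus (n + 2) F)).X a b 0, (amb_plus (F := F) (n + 2)).X_mem _ _ _⟩ :
        E (plusForm (n + 2) F)) = 1 := Subtype.ext ((toFrame (wplus (n + 2) F)).X_zero _ _)
    rw [h4, map_one]
  · intro w k hk hc
    exact eq_one_of_comm (toPOmega hG) (amb_plus (F := F) (n + 2)) hker hn (fun _ => rfl)
      (hpp.odd_of_ne_two hp2) ht ht2 htp cs R.nsys hk fun x y h => hc _ (hmem x y h)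

/-- **The row `PΩ⁺`, `p ∣ q - 1`.** -/
theorem rowInt_oplus (hp2 : p ≠ 2) {F : Type} [Field F] [Fintype F] {m : ℕ} (hm : 4 ≤ m)
    (hd : p ∣ Fintype.card F - 1) : RowInt p (POmega F (quadFormPlus m F)) := by
  obtain ⟨n, rfl⟩ : ∃ n, m = n + 2 := ⟨m - 2, by omega⟩
  exact rowInt_oplus' hp2 (by omega) hd

end Row

end Cfsg.Agent.H314.RatB.OPlus
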